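import Mathlib

/-!
# Blichfeldt's sixty degree lemma

An element whose eigenvalues all lie within sixty degrees of one of them fixes, together with all
its conjugates, the eigenspace of that eigenvalue.
-/

set_option autoImplicit false

namespace CfsgLib.BlichfeldtArc

open Module Finset
open scoped ComplexConjugate

variable {G : Type*} [Group G] [Fintype G] {V : Type*} [AddCommGroup V] [Module ℂ V]
  {ι : Type*} [Fintype ι] (ρ : Representation ℂ G V) (b : Basis ι ℂ V)

/-- The averaged Hermitian form. -/
noncomputable def form (u v : V) : ℂ := ∑ g : G, ∑ i, conj (b.repr (ρ g u) i) * b.repr (ρ g v) i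

/-- The averaged squared length. -/
noncomputable def len (u : V) : ℝ := (form ρ b u u).re

theorem form_invariant (x : G) (u v : V) : form ρ b (ρ x u) (ρ x v) = form ρ b u v := by
  rw [form, form]
  refine Fintype.sum_equiv (Equiv.mulRight x) _ _ fun g => ?_
  simp [map_mul, Module.End.mul_apply]

theorem form_add_left (u u' v : V) : form ρ b (u + u') v = form ρ b u v + form ρ b u' v := by
  simp [form, add_mul, sum_add_distrib]

theorem form_add_right (u v v' : V) : form ρ b u (v + v') = form ρ b u v + form ρ b u v' := by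
  simp [form, mul_add, sum_add_distrib]

theorem form_smul (c d : ℂ) (u v : V) : form ρ b (c • u) (d • v) = conj c * d * form ρ b u v := by
  simp only [form, map_smul, Finsupp.smul_apply, smul_eq_mul, map_mul, mul_sum]
  exact sum_congr rfl fun g _ => sum_congr rfl fun i _ => by ring

theorem form_zero_right (u : V) : form ρ b u 0 = 0 := by simp [form]

theorem form_zero_left (u : V) : form ρ b 0 u = 0 := by simp [form]

theorem form_sub_left (u u' v : V) : form ρ b (u - u') v = form ρ b u v - form ρ b u' v := by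
  simp [form, sub_mul, sum_sub_distrib]

theorem form_sub_right (u v v' : V) : form ρ b u (v - v') = form ρ b u v - form ρ b u v' := by
  simp [form, mul_sub, sum_sub_distrib]

theorem form_sum_sum {κ : Type*} (s : Finset κ) (f g : κ → V)
    (h : ∀ a ∈ s, ∀ a' ∈ s, a ≠ a' → form ρ b (f a) (g a') = 0) :
    form ρ b (∑ a ∈ s, f a) (∑ a ∈ s, g a) = ∑ a ∈ s, form ρ b (f a) (g a) := by
  classical
  let L : V → V →+ ℂ := fun u => AddMonoidHom.mk' (fun v => form ρ b u v) (form_add_right ρ b u)
  let R : V → V →+ ℂ := fun v => AddMonoidHom.mk' (fun u => form ρ b u v) (fun a c => form_add_left ρ b a c v)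
  show R (∑ a ∈ s, g a) (∑ a ∈ s, f a) = _
  rw [map_sum]
  refine sum_congr rfl fun a ha => ?_
  show L (f a) (∑ a ∈ s, g a) = _
  refine (map_sum (L (f a)) g s).trans ?_
  exact sum_eq_single a (fun a' ha' hne => h a ha a' ha' hne.symm) (fun hn => absurd ha hn)

theorem form_conj (u v : V) : form ρ b u v = conj (form ρ b v u) := by
  simp [form, mul_comm]

theorem len_eq (u : V) : len ρ b u = ∑ g : G, ∑ i, Complex.normSq (b.repr (ρ g u) i) := by
  have : form ρ b u u = ((∑ g : G, ∑ i, Complex.normSq (b.repr (ρ g u) i) : ℝ) : ℂ) := by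
    simp [form, Complex.normSq_eq_conj_mul_self]
  rw [len, this, Complex.ofReal_re]

theorem len_nonneg (u : V) : 0 ≤ len ρ b u := by
  rw [len_eq]
  exact sum_nonneg fun g _ => sum_nonneg fun i _ => Complex.normSq_nonneg _

theorem len_pos {u : V} (hu : u ≠ 0) : 0 < len ρ b u := by
  refine (len_nonneg ρ b u).lt_of_ne fun h => hu ?_
  rw [len_eq, eq_comm, sum_eq_zero_iff_of_nonneg fun g _ => sum_nonneg fun i _ => Complex.normSq_nonneg _] at h
  have h1 := (sum_eq_zero_iff_of_nonneg fun i _ => Complex.normSq_nonneg _).mp (h 1 (mem_univ _))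
  refine b.repr.injective (Finsupp.ext fun i => ?_)
  simpa using h1 i (mem_univ _)

theorem len_smul (c : ℂ) (u : V) : len ρ b (c • u) = Complex.normSq c * len ρ b u := by
  rw [len, form_smul, ← Complex.normSq_eq_conj_mul_self, Complex.re_ofReal_mul, len]

theorem len_apply (x : G) (u : V) : len ρ b (ρ x u) = len ρ b u := by
  rw [len, form_invariant, len]

theorem len_sub_comm (u v : V) : len ρ b (u - v) = len ρ b (v - u) := by
  rw [← neg_sub u v, ← neg_one_smul ℂ (u - v), len_smul]
  simp

/-- The scaled action of a conjugate. -/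
noncomputable def op (c : ℂ) (z g : G) : V →ₗ[ℂ] V := c • ρ (g * z * g⁻¹)

set_option maxHeartbeats 1000000 in
/-- **Blichfeldt's lemma.** -/
theorem eigen_eq_one [IsSimpleGroup G] (hρ : ρ.IsIrreducible) {z : G} (hz : z ≠ 1) {c : ℂ}
    {μ : ι → ℂ} (hb : ∀ i, ρ z (b i) = μ i • b i) (hn : ∀ i, ‖c * μ i‖ = 1)
    (hlt : ∀ i, ‖c * μ i - 1‖ < 1) {i₀ : ι} (h0 : c * μ i₀ = 1) : ∀ i, c * μ i = 1 := by
  classical
  set T : V →ₗ[ℂ] V := op ρ c z 1 with hT
  have hTe : T = c • ρ z := by simp [hT, op]
  have hTb : ∀ i, T (b i) = (c * μ i) • b i := fun i => by simp [hTe, hb, smul_smul]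
  have hμ1 : ‖μ i₀‖ = 1 := by
    obtain ⟨m, hm, hzm⟩ : ∃ m, m ≠ 0 ∧ z ^ m = 1 := ⟨orderOf z, (orderOf_pos z).ne', pow_orderOf_eq_one z⟩
    have hpow : ∀ k : ℕ, ρ (z ^ k) (b i₀) = μ i₀ ^ k • b i₀ := by
      intro k
      induction k with
      | zero => simp
      | succ k ih => rw [pow_succ', map_mul, Module.End.mul_apply, ih, map_smul, hb, smul_smul, pow_succ]
    have h := hpow m
    rw [hzm, map_one, Module.End.one_apply] at h
    have h2 : (μ i₀ ^ m - 1) • b i₀ = 0 := by rw [sub_smul, one_smul, ← h, sub_self]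
    exact Complex.norm_eq_one_of_pow_eq_one
      (sub_eq_zero.mp ((smul_eq_zero.mp h2).resolve_right (b.ne_zero i₀))) hm
  have hc : ‖c‖ = 1 := by
    have := hn i₀; rwa [norm_mul, hμ1, mul_one] at this
  have hcc : conj c * c = 1 := by
    rw [← Complex.normSq_eq_conj_mul_self, Complex.normSq_eq_norm_sq, hc]; simp
  have hTinv : ∀ u v, form ρ b (T u) (T v) = form ρ b u v := fun u v => by
    rw [hTe, LinearMap.smul_apply, LinearMap.smul_apply, form_smul, hcc, one_mul, form_invariant]
  have hopT : ∀ g u, op ρ c z g u = ρ g (T (ρ g⁻¹ u)) := fun g u => by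
    simp [op, hTe, map_mul, Module.End.mul_apply]
  -- the contraction
  have hcon : ∀ u : V, u ≠ 0 → len ρ b (T u - u) < len ρ b u := by
    intro u hu
    set S := Finset.univ.image fun i => c * μ i with hS
    let comp : ℂ → V := fun a => ∑ i with c * μ i = a, b.repr u i • b i
    have hu' : u = ∑ a ∈ S, comp a := by
      rw [Finset.sum_fiberwise_of_maps_to (fun i _ => mem_image_of_mem _ (mem_univ i))]
      exact (b.sum_repr u).symm
    have heig : ∀ a, T (comp a) = a • comp a := fun a => by
      simp only [comp, map_sum, smul_sum, map_smul, hTb]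
      refine sum_congr rfl fun i hi => ?_
      rw [(mem_filter.mp hi).2, smul_comm]
    have hunit : ∀ a ∈ S, conj a * a = 1 := fun a ha => by
      obtain ⟨i, -, rfl⟩ := mem_image.mp ha
      rw [← Complex.normSq_eq_conj_mul_self, Complex.normSq_eq_norm_sq, hn]; simp
    have horth : ∀ a ∈ S, ∀ a' ∈ S, a ≠ a' → form ρ b (comp a) (comp a') = 0 := by
      intro a ha a' ha' hne
      have h := hTinv (comp a) (comp a')
      rw [heig, heig, form_smul] at h
      have h2 : (conj a * a' - 1) * form ρ b (comp a) (comp a') = 0 := by linear_combination h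
      refine (mul_eq_zero.mp h2).resolve_left fun h3 => hne ?_
      have := hunit a ha
      linear_combination a' * this - a * sub_eq_zero.mp h3
    have e1 : len ρ b u = ∑ a ∈ S, len ρ b (comp a) := by
      conv_lhs => rw [len, hu', form_sum_sum ρ b S comp comp horth]
      rw [Complex.re_sum]; rfl
    have hdiff : T u - u = ∑ a ∈ S, (a - 1) • comp a := by
      conv_lhs => rw [hu', map_sum, ← sum_sub_distrib]
      exact sum_congr rfl fun a _ => by rw [heig, sub_smul, one_smul]
    have e2 : len ρ b (T u - u) = ∑ a ∈ S, Complex.normSq (a - 1) * len ρ b (comp a) := by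
      rw [len, hdiff, form_sum_sum ρ b S _ _ (fun a ha a' ha' hne => by
        rw [form_smul, horth a ha a' ha' hne, mul_zero]), Complex.re_sum]
      exact sum_congr rfl fun a _ => len_smul ρ b _ _
    have hlt' : ∀ a ∈ S, Complex.normSq (a - 1) < 1 := fun a ha => by
      obtain ⟨i, -, rfl⟩ := mem_image.mp ha
      rw [Complex.normSq_eq_norm_sq]
      have := hlt i
      have := norm_nonneg (c * μ i - 1)
      nlinarith
    rw [e1, e2]
    refine sum_lt_sum (fun a ha => mul_le_of_le_one_left (len_nonneg ρ b _) (hlt' a ha).le) ?_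
    obtain ⟨a, ha, hne⟩ : ∃ a ∈ S, comp a ≠ 0 := by
      by_contra hall
      push Not at hall
      exact hu (hu'.trans (sum_eq_zero hall))
    exact ⟨a, ha, mul_lt_of_lt_one_left (len_pos ρ b hne) (hlt' a ha)⟩
  have hconB : ∀ g : G, ∀ u : V, u ≠ 0 → len ρ b (op ρ c z g u - u) < len ρ b u := by
    intro g u hu
    have hu' : ρ g⁻¹ u ≠ 0 := fun h => hu (by
      have := congrArg (ρ g) h
      rwa [map_zero, Representation.self_inv_apply] at this)
    have := hcon _ hu'
    rwa [← len_apply ρ b g, map_sub, Representation.self_inv_apply, ← hopT, len_apply] at this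
  -- the fixed space
  set W : Submodule ℂ V := LinearMap.ker (T - LinearMap.id) with hW
  have hWmem : ∀ v, v ∈ W ↔ T v = v := fun v => by simp [hW, sub_eq_zero]
  haveI : FiniteDimensional ℂ V := Module.Finite.of_basis b
  let d := Module.finBasis ℂ W
  let f : G → ℝ := fun g => ∑ j, len ρ b (op ρ c z g (d j) - d j)
  have hpres : ∀ g : G, ∀ v ∈ W, op ρ c z g v ∈ W := by
    by_contra hcon'
    push Not at hcon'
    obtain ⟨g₀, v₀, hv₀, hv₀'⟩ := hcon'
    obtain ⟨g, hg, hmin⟩ := (Finset.univ.filter fun g : G => ¬ W.map (op ρ c z g) ≤ W).exists_min_image f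
      ⟨g₀, mem_filter.mpr ⟨mem_univ _, fun h => hv₀' (h (Submodule.mem_map_of_mem hv₀))⟩⟩
    replace hg : ¬ W.map (op ρ c z g) ≤ W := (mem_filter.mp hg).2
    set B := op ρ c z g with hB
    set Bi : V →ₗ[ℂ] V := conj c • ρ (g * z⁻¹ * g⁻¹) with hBi
    have hBBi : ∀ u, B (Bi u) = u := fun u => by
      simp only [hB, hBi, op, LinearMap.smul_apply, map_smul, smul_smul]
      rw [← Module.End.mul_apply, ← map_mul, hcc, one_smul,
        show g * z * g⁻¹ * (g * z⁻¹ * g⁻¹) = 1 by group, map_one, Module.End.one_apply]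
    set g' := g * z * g⁻¹ with hg'
    have hkey : ∀ v, op ρ c z g' v = B (T (Bi v)) := fun v => by
      simp only [hB, hBi, op, hTe, hg', LinearMap.smul_apply, map_smul, smul_smul]
      rw [show ρ (g * z * g⁻¹) (ρ z (ρ (g * z⁻¹ * g⁻¹) v)) =
          ρ (g * z * g⁻¹ * z * (g * z⁻¹ * g⁻¹)) v by simp only [map_mul, Module.End.mul_apply],
        show g * z * g⁻¹ * z * (g * z * g⁻¹)⁻¹ = g * z * g⁻¹ * z * (g * z⁻¹ * g⁻¹) by group,
        hcc, one_mul]
    have hBlen : ∀ u, len ρ b (B u) = len ρ b u := fun u => by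
      rw [hB, op, LinearMap.smul_apply, len_smul, len_apply, Complex.normSq_eq_norm_sq, hc]; simp
    have hstep : ∀ v ∈ W, op ρ c z g' v - v = B (T (Bi v - v) - (Bi v - v)) := fun v hv => by
      rw [hkey, map_sub T, (hWmem v).mp hv, map_sub, map_sub, map_sub, hBBi]
      abel
    have hfix : ∀ v ∈ W, len ρ b (Bi v - v) = len ρ b (B v - v) := fun v hv => by
      rw [← hBlen (Bi v - v), map_sub, hBBi, len_sub_comm]
    have hlef : f g' < f g := by
      refine sum_lt_sum (fun j _ => ?_) ?_
      · rw [hstep _ (d j).2, hBlen, ← hfix _ (d j).2]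
        rcases eq_or_ne (Bi (d j : V) - d j) 0 with h | h
        · rw [h, map_zero, sub_zero]
        · exact (hcon _ h).le
      · obtain ⟨j, hj⟩ : ∃ j, Bi (d j : V) - d j ≠ 0 := by
          by_contra hall
          push Not at hall
          refine hg (Submodule.map_le_iff_le_comap.mpr fun v hv => ?_)
          have hB1 : B.comp W.subtype = W.subtype := d.ext fun j => by
            have := hBBi (d j : V)
            rw [sub_eq_zero.mp (hall j)] at this
            exact this
          show B v ∈ W
          rw [show B v = v from LinearMap.congr_fun hB1 ⟨v, hv⟩]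
          exact hv
        refine ⟨j, mem_univ _, ?_⟩
        rw [hstep _ (d j).2, hBlen, ← hfix _ (d j).2]
        exact hcon _ hj
    have hg'W : ∀ v ∈ W, op ρ c z g' v ∈ W := by
      by_contra hnot
      exact absurd (hmin g' (mem_filter.mpr ⟨mem_univ _, fun h => hnot fun v hv => h (Submodule.mem_map_of_mem hv)⟩)) (not_le.mpr hlef)
    obtain ⟨v, hv, hvW⟩ : ∃ v ∈ W, Bi v ∉ W := by
      by_contra hall
      push Not at hall
      refine hg (Submodule.map_le_iff_le_comap.mpr fun v hv => ?_)
      have hinj : Function.Injective (Bi.restrict hall) := fun a a' h => Subtype.ext (by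
        have := congrArg (fun t : W => B t.1) h
        simpa [LinearMap.restrict_apply, hBBi] using this)
      obtain ⟨w, hw⟩ := (Bi.restrict hall).injective_iff_surjective.mp hinj ⟨v, hv⟩
      show B v ∈ W
      have hwv : Bi w.1 = v := congrArg Subtype.val hw
      rw [← hwv, hBBi]
      exact w.2
    set w := T (Bi v) - Bi v with hw
    have hw0 : w ≠ 0 := fun h => hvW ((hWmem _).mpr (sub_eq_zero.mp h))
    have hBw : B w ∈ W := by
      rw [hw, map_sub, ← hkey, hBBi]
      exact W.sub_mem (hg'W v hv) hv
    have hperp : form ρ b w (B w) = 0 := by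
      rw [hw, form_sub_left]
      nth_rewrite 1 [← (hWmem _).mp hBw]
      rw [hTinv, sub_self]
    have hperp' : form ρ b (B w) w = 0 := by
      rw [form_conj, hperp, map_zero]
    clear_value w
    have h2 : len ρ b (B w - w) = len ρ b (B w) + len ρ b w := by
      rw [len, form_sub_left, form_sub_right, form_sub_right, hperp, hperp', sub_zero, zero_sub,
        sub_neg_eq_add, Complex.add_re]
      rfl
    have h3 := hconB g w hw0
    rw [← hB, h2, hBlen] at h3
    have := len_nonneg ρ b w
    linarith
  -- conclusion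
  have hc0 : c ≠ 0 := fun h => by simp [h] at hc
  have hconj : ∀ g : G, ∀ v ∈ W, ρ (g * z * g⁻¹) v ∈ W := fun g v hv => by
    have := W.smul_mem c⁻¹ (hpres g v hv)
    rwa [op, LinearMap.smul_apply, smul_smul, inv_mul_cancel₀ hc0, one_smul] at this
  have hall : ∀ x : G, ∀ v ∈ W, ρ x v ∈ W := by
    have htop : Subgroup.normalClosure ({z} : Set G) = ⊤ :=
      (Subgroup.normalClosure_normal.eq_bot_or_eq_top).resolve_left fun h =>
        hz (Subgroup.mem_bot.mp (h ▸ Subgroup.subset_normalClosure (Set.mem_singleton z)))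
    intro x
    have hx : x ∈ Subgroup.normalClosure ({z} : Set G) := htop ▸ Subgroup.mem_top x
    induction hx using Subgroup.closure_induction with
    | mem y hy =>
      obtain ⟨z', hz', hyz⟩ := Group.mem_conjugatesOfSet_iff.mp hy
      obtain ⟨g, rfl⟩ := isConj_iff.mp hyz
      rw [Set.mem_singleton_iff.mp hz']
      exact hconj g
    | one => intro v hv; simpa using hv
    | mul a b _ _ iha ihb =>
      intro v hv
      rw [map_mul]
      exact iha _ (ihb v hv)
    | inv a _ iha =>
      intro v hv
      have : ∀ n : ℕ, ρ (a ^ n) v ∈ W := by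
        intro n
        induction n with
        | zero => simpa using hv
        | succ n ih => rw [pow_succ', map_mul]; exact iha _ ih
      rw [show a⁻¹ = a ^ (orderOf a - 1) from inv_eq_of_mul_eq_one_right (by
        rw [← pow_succ', Nat.sub_add_cancel (orderOf_pos a), pow_orderOf_eq_one])]
      exact this _
  let U : Subrepresentation ρ := { toSubmodule := W, apply_mem_toSubmodule := fun g v hv => hall g v hv }
  have hWtop : W = ⊤ := by
    haveI := hρ
    rcases eq_bot_or_eq_top U with h | h
    · refine absurd ?_ (b.ne_zero i₀)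
      have hb0 : b i₀ ∈ W := (hWmem _).mpr (by rw [hTb, h0, one_smul])
      rw [show W = ⊥ from congrArg Subrepresentation.toSubmodule h] at hb0
      exact (Submodule.mem_bot _).mp hb0
    · exact congrArg Subrepresentation.toSubmodule h
  intro i
  have h := (hWmem (b i)).mp (hWtop ▸ Submodule.mem_top)
  rw [hTb] at h
  exact sub_eq_zero.mp ((smul_eq_zero.mp (show (c * μ i - 1) • b i = 0 by
    rw [sub_smul, one_smul, h, sub_self])).resolve_right (b.ne_zero i))

end CfsgLib.BlichfeldtArc
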