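import Cfsg.Agent.Lib.BlichfeldtArc.Basic
import Cfsg.Agent.Lib.Blocks.SectionOrth
import Cfsg.Agent.Lib.Blocks.PairConj
import Cfsg.Agent.Lib.BrauerReynolds.Centralizer

/-!
# A large prime divisor of a simple group needs a large cofactor
-/

set_option autoImplicit false

namespace CfsgLib.BlichfeldtArc

open Cfsg CfsgLib
open scoped ComplexConjugate CfsgLib.Char
open scoped _root_.Classical

theorem isIntegral_nat (k : ℕ) : IsIntegral ℤ ((k : ℕ) : ℂ) := natCast_mem AlgInt k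

theorem isIntegral_int (k : ℤ) : IsIntegral ℤ ((k : ℤ) : ℂ) := intCast_mem AlgInt k

variable {G : Type*} [Group G] [Fintype G] {p : ℕ} {M : Ideal AlgInt}

/-- A character of the principal block of degree prime to `q` not vanishing at `y`. -/
theorem exists_char (hM : IsPModular p M) {y : G} (hy : orderOf y = p) {q : ℕ} (hq : q.Prime) :
    ∃ χ : IrrCharacter G, χ ∈ principalBlock M G ∧ χ ≠ Blocks.trivIrr G ∧
      ¬ q ∣ charDegree (χ : G → ℂ) ∧ (χ : G → ℂ) y ≠ 0 := by
  haveI := Blocks.isPrime_of_isPModular hM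
  by_contra hcon
  push Not at hcon
  have hsum := Blocks.sum_block_conj_eq_zero_of_section hM (B := principalBlock M G)
    Blocks.isPBlock_principalBlock (x := y) (g := 1) ⟨1, by rw [hy, pow_one]⟩ (fun k _ hk h => by
      have h1 : y * k = 1 := isConj_one_left.mp h
      refine hk ?_
      rw [eq_inv_of_mul_eq_one_right h1, orderOf_inv, hy])
  have htriv : Blocks.trivIrr G ∈ Finset.univ.filter fun χ : IrrCharacter G => χ ∈ principalBlock M G :=
    Finset.mem_filter.mpr ⟨Finset.mem_univ _, Blocks.trivIrr_mem_principalBlock G⟩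
  rw [← Finset.add_sum_erase _ _ htriv] at hsum
  set rest := (Finset.univ.filter fun χ : IrrCharacter G => χ ∈ principalBlock M G).erase (Blocks.trivIrr G)
  have hterm : ∀ χ ∈ rest, IsIntegral ℤ ((χ : G → ℂ) y * conj ((χ : G → ℂ) 1) / (q : ℂ)) := by
    intro χ hχ
    obtain ⟨hne, hmem⟩ := Finset.mem_erase.mp hχ
    rw [(Blocks.irr_degree_eq χ).1, Complex.conj_natCast]
    by_cases hd : q ∣ charDegree (χ : G → ℂ)
    · obtain ⟨k, hk⟩ := hd
      rw [hk, Nat.cast_mul, mul_div_assoc, mul_div_cancel_left₀ _ (Nat.cast_ne_zero.mpr hq.ne_zero)]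
      exact (Blocks.irr_isIntegral χ.2 y).mul (isIntegral_nat k)
    · rw [hcon χ (Finset.mem_filter.mp hmem).2 hne hd, zero_mul, zero_div]
      exact isIntegral_zero
  have hint := (IsIntegral.sum (fun χ : IrrCharacter G => (χ : G → ℂ) y * conj ((χ : G → ℂ) 1) / (q : ℂ)) hterm).neg
  rw [← Finset.sum_div, ← neg_div, ← eq_neg_of_add_eq_zero_left hsum] at hint
  have h1 : ((Blocks.trivIrr G : G → ℂ) y * conj ((Blocks.trivIrr G : G → ℂ) 1) / (q : ℂ)) =
      ((1 : ℕ) : ℂ) / q := by simp [Blocks.trivIrr]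
  rw [h1] at hint
  exact hq.one_lt.ne' (Nat.dvd_one.mp (Char.dvd_of_isIntegral_div hq.ne_zero hint))

/-- In the principal block an element with class size prime to `p` has few eigenvalues. -/
theorem support_small (hM : IsPModular p M) {k : ℕ} (ρ : Representation ℂ G (Fin k → ℂ))
    {χ : IrrCharacter G} (he : ρ.character = (χ : G → ℂ)) (hχ : χ ∈ principalBlock M G) {y : G}
    (hy : orderOf y = p) (hC : ¬ p ∣ (Subgroup.centralizer ({y} : Set G)).index)
    {ι : Type*} [Fintype ι] {μ : ι → ℂ} (hμ : ∀ i, μ i ^ p = 1)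
    (hval : ∀ j : ℕ, (χ : G → ℂ) (y ^ j) = ∑ i, μ i ^ j) :
    (Finset.univ.image μ).card ≤
      Nat.gcd (charDegree (χ : G → ℂ)) (Subgroup.centralizer ({y} : Set G)).index := by
  haveI := Blocks.isPrime_of_isPModular hM
  haveI := Fact.mk hM.1
  obtain ⟨hn1, hn0⟩ := Blocks.irr_degree_eq χ
  set n := charDegree (χ : G → ℂ) with hn
  set c := (Subgroup.centralizer ({y} : Set G)).index with hc
  set r := Nat.gcd n c with hr
  obtain ⟨n', hn'⟩ := Nat.gcd_dvd_left n c
  obtain ⟨c', hc'⟩ := Nat.gcd_dvd_right n c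
  rw [← hr] at hn' hc'
  have hr0 : r ≠ 0 := (Nat.gcd_pos_of_pos_left c hn0).ne'
  have hn'0 : n' ≠ 0 := fun h => hn0.ne' (by rw [hn', h, mul_zero])
  have hcop : Nat.Coprime n' c' := by
    have h := Nat.coprime_div_gcd_div_gcd (m := n) (n := c) (Nat.pos_of_ne_zero hr0)
    rwa [← hr, hn', hc', Nat.mul_div_cancel_left _ (Nat.pos_of_ne_zero hr0),
      Nat.mul_div_cancel_left _ (Nat.pos_of_ne_zero hr0)] at h
  have hc'p : ¬ p ∣ c' := fun h => hC (hc' ▸ h.mul_left r)
  -- the reduced values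
  have halpha : ∀ j : ℕ, ¬ p ∣ j → IsIntegral ℤ ((χ : G → ℂ) (y ^ j) / (n' : ℂ)) ∧
      MemLocalIdeal M ((χ : G → ℂ) (y ^ j) / (n' : ℂ) - (r : ℂ)) := by
    intro j hj
    have hcj : (Subgroup.centralizer ({y ^ j} : Set G)).index = c := by
      rw [hc]
      congr 1
      ext w
      simp only [Subgroup.mem_centralizer_singleton_iff]
      refine ⟨fun h => ?_, fun h => ((Commute.pow_right (h : Commute w y) j) : Commute w (y ^ j))⟩
      obtain ⟨m, hm⟩ : ∃ m : ℕ, (y ^ j) ^ m = y :=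
        exists_pow_eq_self_of_coprime (by rw [hy]; exact ((hM.1.coprime_iff_not_dvd).mpr hj).symm)
      rw [← hm]
      exact (Commute.pow_right (h : Commute w (y ^ j)) m).eq
    have hω := Blocks.isIntegral_centralChar χ (y ^ j)
    have hblk := Blocks.mem_principalBlock_iff.mp hχ (y ^ j)
    rw [centralChar, hcj, hn1] at hω hblk
    have hnC : (n : ℂ) = r * n' := by rw [hn', Nat.cast_mul]
    have hcC : (c : ℂ) = r * c' := by rw [hc', Nat.cast_mul]
    have hrC : (r : ℂ) ≠ 0 := Nat.cast_ne_zero.mpr hr0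
    have hn'C : (n' : ℂ) ≠ 0 := Nat.cast_ne_zero.mpr hn'0
    have hω' : (c : ℂ) * (χ : G → ℂ) (y ^ j) / n = c' * ((χ : G → ℂ) (y ^ j) / n') := by
      rw [hnC, hcC]; field_simp
    rw [hω'] at hω hblk
    constructor
    · have hb := Nat.gcd_eq_gcd_ab n' c'
      rw [hcop.gcd_eq_one] at hb
      have hb' : (1 : ℂ) = (n' : ℂ) * (Nat.gcdA n' c' : ℂ) + (c' : ℂ) * (Nat.gcdB n' c' : ℂ) := by
        exact_mod_cast hb
      have : (χ : G → ℂ) (y ^ j) / (n' : ℂ) = (Nat.gcdA n' c' : ℂ) * (χ : G → ℂ) (y ^ j) +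
          (Nat.gcdB n' c' : ℂ) * ((c' : ℂ) * ((χ : G → ℂ) (y ^ j) / n')) := by
        field_simp
        linear_combination (χ : G → ℂ) (y ^ j) * hb'
      rw [this]
      exact ((isIntegral_int _).mul (Blocks.irr_isIntegral χ.2 _)).add ((isIntegral_int _).mul hω)
    · have h := Blocks.memLocalIdeal_mul_left (Blocks.memLocalRing_natCast_inv hM hc'p) hblk
      have hc'C : (c' : ℂ) ≠ 0 := Nat.cast_ne_zero.mpr fun h => hc'p (h ▸ dvd_zero p)
      rwa [hcC, show (c' : ℂ)⁻¹ * ((c' : ℂ) * ((χ : G → ℂ) (y ^ j) / n') - r * c') =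
        (χ : G → ℂ) (y ^ j) / n' - r by field_simp] at h
  -- each multiplicity is a multiple of `n'`
  have hp0 : (p : ℂ) ≠ 0 := Nat.cast_ne_zero.mpr hM.1.ne_zero
  have hn'C : (n' : ℂ) ≠ 0 := Nat.cast_ne_zero.mpr hn'0
  have hdeg : (Fintype.card ι : ℕ) = n := by
    have h := hval 0
    simp only [pow_zero, Finset.sum_const, Finset.card_univ, nsmul_eq_mul, mul_one] at h
    rw [hn1] at h
    exact_mod_cast h.symm
  have hmult : ∀ a ∈ Finset.univ.image μ, n' ∣ (Finset.univ.filter fun i => μ i = a).card := by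
    intro a ha
    obtain ⟨i₀, -, rfl⟩ := Finset.mem_image.mp ha
    set a := μ i₀ with haa
    set m := (Finset.univ.filter fun i => μ i = a).card with hm
    have ha1 : a ^ p = 1 := hμ i₀
    have ha0 : a ≠ 0 := fun h => by rw [h, zero_pow hM.1.ne_zero] at ha1; exact zero_ne_one ha1
    have htot : ∑ j ∈ Finset.range p, (χ : G → ℂ) (y ^ j) * (a⁻¹) ^ j = (p : ℂ) * m := by
      simp only [hval, Finset.sum_mul, ← mul_pow]
      rw [Finset.sum_comm, Finset.natCast_card_filter, Finset.mul_sum]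
      refine Finset.sum_congr rfl fun i _ => ?_
      by_cases hi : μ i = a
      · simp [hi, ha0]
      · rw [if_neg hi, mul_zero]
        have hne : μ i * a⁻¹ ≠ 1 := fun h => hi ((mul_inv_eq_one₀ ha0).mp h)
        rw [geom_sum_eq hne, mul_pow, inv_pow, hμ, ha1]
        simp
    obtain ⟨p', hp'⟩ : ∃ p', p = p' + 1 := ⟨p - 1, by have := hM.1.two_le; omega⟩
    let β : ℕ → ℂ := fun j => (χ : G → ℂ) (y ^ (j + 1)) / (n' : ℂ)
    have hβ : ∀ j ∈ Finset.range p', IsIntegral ℤ (β j) ∧ MemLocalIdeal M (β j - (r : ℂ)) := fun j hj =>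
      halpha (j + 1) fun h => by
        have := Nat.le_of_dvd (by omega) h
        have := Finset.mem_range.mp hj
        omega
    have hq : ((p * m : ℕ) : ℂ) / n' = r + ∑ j ∈ Finset.range p', β j * (a⁻¹) ^ (j + 1) := by
      rw [Nat.cast_mul, ← htot, hp', Finset.sum_range_succ', add_div, Finset.sum_div, add_comm]
      congr 1
      · rw [pow_zero, pow_zero, mul_one, hn1, hn', Nat.cast_mul, mul_div_assoc, div_self hn'C, mul_one]
      · exact Finset.sum_congr rfl fun j _ => mul_div_right_comm _ _ _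
    have hinva : (a⁻¹) ^ p = 1 := by rw [inv_pow, ha1, inv_one]
    have hint : IsIntegral ℤ (((p * m : ℕ) : ℂ) / n') := by
      rw [hq]
      exact (isIntegral_nat r).add (IsIntegral.sum _ fun j hj => (hβ j hj).1.mul
        ((IsIntegral.of_pow hM.1.pos (by rw [hinva]; exact isIntegral_one)).pow _))
    obtain ⟨e, he'⟩ := Char.dvd_of_isIntegral_div hn'0 hint
    have hloc : MemLocalIdeal M ((e : ℂ)) := by
      have h2 : ((p * m : ℕ) : ℂ) / n' = e := by rw [he', Nat.cast_mul]; field_simp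
      rw [← h2, hq]
      have h3 : (r : ℂ) + ∑ j ∈ Finset.range p', β j * (a⁻¹) ^ (j + 1) = (p : ℂ) * r +
          ∑ j ∈ Finset.range p', ((β j - r) * (a⁻¹) ^ (j + 1) + (r : ℂ) * ((a⁻¹) ^ (j + 1) - 1)) := by
        rw [hp', Nat.cast_add, Nat.cast_one, add_mul, one_mul, add_comm ((p' : ℂ) * r), add_assoc]
        congr 1
        rw [← sub_eq_iff_eq_add']
        conv_lhs => arg 2; rw [← Finset.card_range p', ← nsmul_eq_mul, ← Finset.sum_const]
        rw [← Finset.sum_sub_distrib]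
        exact Finset.sum_congr rfl fun j _ => by ring
      rw [h3]
      refine Blocks.memLocalIdeal_add (Blocks.memLocalIdeal_mul_right (Blocks.memLocalIdeal_p hM)
        (Blocks.memLocalRing_natCast r)) (Blocks.memLocalIdeal_sum _ _ fun j hj => ?_)
      have hpow : ((a⁻¹) ^ (j + 1)) ^ p ^ 1 = 1 := by rw [pow_one, ← pow_mul, mul_comm, pow_mul, hinva, one_pow]
      exact Blocks.memLocalIdeal_add (Blocks.memLocalIdeal_mul_right (hβ j hj).2
        (Blocks.memLocalRing_of_isIntegral ((IsIntegral.of_pow hM.1.pos (by rw [hinva]; exact isIntegral_one)).pow _)))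
        (Blocks.memLocalIdeal_mul_left (Blocks.memLocalRing_natCast r) (Blocks.memLocalIdeal_root_sub_one hM hpow))
    obtain ⟨e', rfl⟩ := (Blocks.memLocalIdeal_natCast_iff hM).mp hloc
    refine ⟨e', Nat.eq_of_mul_eq_mul_left hM.1.pos ?_⟩
    rw [he']; ring
  have hle : (Finset.univ.image μ).card * n' ≤ Fintype.card ι := by
    rw [← Finset.card_univ, Finset.card_eq_sum_card_image μ Finset.univ, ← smul_eq_mul]
    refine Finset.card_nsmul_le_sum _ _ _ fun a ha => Nat.le_of_dvd ?_ (hmult a ha)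
    obtain ⟨i, -, rfl⟩ := Finset.mem_image.mp ha
    exact Finset.card_pos.mpr ⟨i, Finset.mem_filter.mpr ⟨Finset.mem_univ i, rfl⟩⟩
  rw [hdeg, hn'] at hle
  exact Nat.le_of_mul_le_mul_right hle (Nat.pos_of_ne_zero hn'0)

/-- Some power brings a few roots of unity within sixty degrees of a given one. -/
theorem exists_close (hp : p.Prime) {S : Finset ℂ} (hS : ∀ a ∈ S, a ^ p = 1) {a₀ : ℂ} (ha₀ : a₀ ∈ S)
    (hlt : 6 ^ (S.card - 1) < p) :
    ∃ j : ℕ, ¬ p ∣ j ∧ ∀ a ∈ S, ‖(a₀ ^ j)⁻¹ * a ^ j - 1‖ < 1 := by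
  haveI : NeZero p := ⟨hp.ne_zero⟩
  have hprim := Complex.isPrimitiveRoot_exp p hp.ne_zero
  set ζ := Complex.exp (2 * Real.pi * Complex.I / p) with hζ
  have ha00 : a₀ ≠ 0 := fun h => by
    have := hS a₀ ha₀; rw [h, zero_pow hp.ne_zero] at this; exact zero_ne_one this
  have hex : ∀ a ∈ S, ∃ e : ℕ, ζ ^ e = a₀⁻¹ * a := fun a ha => by
    obtain ⟨i, -, hi⟩ := hprim.eq_pow_of_pow_eq_one (ξ := a₀⁻¹ * a)
      (by rw [mul_pow, inv_pow, hS a ha, hS a₀ ha₀, inv_one, mul_one])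
    exact ⟨i, hi⟩
  choose! e he using hex
  let box : Fin p → (↥(S.erase a₀) → Fin 6) := fun k a =>
    ⟨6 * ((k.val * e a) % p) / p, (Nat.div_lt_iff_lt_mul hp.pos).mpr
      (Nat.mul_lt_mul_of_pos_left (Nat.mod_lt _ hp.pos) (by norm_num))⟩
  obtain ⟨k, k', hne, hbox⟩ := Fintype.exists_ne_map_eq_of_card_lt box (by
    rw [Fintype.card_fun, Fintype.card_fin, Fintype.card_fin, Fintype.card_coe,
      Finset.card_erase_of_mem ha₀]
    exact hlt)
  wlog hkk : k'.val < k.val generalizing k k'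
  · exact this k' k hne.symm hbox.symm
      (lt_of_le_of_ne (not_lt.mp hkk) fun h => hne (Fin.ext h))
  refine ⟨k.val - k'.val, fun h => ?_, fun a ha => ?_⟩
  · have := Nat.le_of_dvd (by omega) h
    have := k.isLt
    omega
  rcases eq_or_ne a a₀ with rfl | hne'
  · rw [inv_mul_cancel₀ (pow_ne_zero _ ha00), sub_self, norm_zero]; exact one_pos
  set x := (k.val * e a) % p with hx
  set x' := (k'.val * e a) % p with hx'
  have hbx : 6 * x / p = 6 * x' / p :=
    congrArg Fin.val (congrFun hbox ⟨a, Finset.mem_erase.mpr ⟨hne', ha⟩⟩)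
  have hζ0 : ζ ≠ 0 := Complex.exp_ne_zero _
  have hval : (a₀ ^ (k.val - k'.val))⁻¹ * a ^ (k.val - k'.val) = ζ ^ ((x : ℤ) - x') := by
    have h1 : ∀ t : ℕ, ζ ^ (t * e a % p) = (a₀⁻¹ * a) ^ t := fun t => by
      rw [← he a ha, ← pow_mul, mul_comm (e a) t]
      conv_rhs => rw [← Nat.mod_add_div (t * e a) p, pow_add, pow_mul, hprim.pow_eq_one, one_pow, mul_one]
    have ha0 : a ≠ 0 := fun h => by
      have := hS a ha; rw [h, zero_pow hp.ne_zero] at this; exact zero_ne_one this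
    rw [← inv_pow, ← mul_pow, pow_sub₀ _ (mul_ne_zero (inv_ne_zero ha00) ha0) hkk.le, zpow_sub₀ hζ0,
      zpow_natCast, zpow_natCast, hx, hx', h1, h1, div_eq_mul_inv]
  rw [hval]
  set θ : ℝ := 2 * Real.pi * (((x : ℤ) - x' : ℤ) : ℝ) / p with hθ
  have hexp : ζ ^ ((x : ℤ) - x') = Complex.exp ((θ : ℂ) * Complex.I) := by
    rw [hζ, ← Complex.exp_int_mul, hθ]
    push_cast
    ring_nf
  have hdist : 6 * |(((x : ℤ) - x' : ℤ) : ℝ)| < p := by
    have h1 := Nat.div_add_mod (6 * x) p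
    have h2 := Nat.div_add_mod (6 * x') p
    have h3 := Nat.mod_lt (6 * x) hp.pos
    have h4 := Nat.mod_lt (6 * x') hp.pos
    rw [hbx] at h1
    have h5 : |6 * ((x : ℤ) - x')| < p := abs_lt.mpr ⟨by omega, by omega⟩
    have h6 : ((|6 * ((x : ℤ) - x')| : ℤ) : ℝ) < p := by exact_mod_cast h5
    rw [Int.cast_abs, Int.cast_mul, abs_mul] at h6
    simpa using h6
  have hθ' : |θ| < Real.pi / 3 := by
    have hpR : (0 : ℝ) < p := by exact_mod_cast hp.pos
    rw [hθ, abs_div, abs_mul, abs_of_pos (by positivity : (0 : ℝ) < 2 * Real.pi), abs_of_pos hpR,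
      div_lt_iff₀ hpR]
    nlinarith [Real.pi_pos]
  have hcos : 1 / 2 < Real.cos θ := by
    rw [← Real.cos_pi_div_three, ← Real.cos_abs θ]
    exact Real.cos_lt_cos_of_nonneg_of_le_pi (abs_nonneg θ) (by linarith [Real.pi_pos]) hθ'
  rw [hexp]
  have hsq : ‖Complex.exp ((θ : ℂ) * Complex.I) - 1‖ ^ 2 = 2 - 2 * Real.cos θ := by
    rw [← Complex.normSq_eq_norm_sq, Complex.normSq_apply]
    simp only [Complex.sub_re, Complex.sub_im, Complex.one_re, Complex.one_im,
      Complex.exp_ofReal_mul_I_re, Complex.exp_ofReal_mul_I_im, sub_zero]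
    nlinarith [Real.sin_sq_add_cos_sq θ]
  nlinarith [norm_nonneg (Complex.exp ((θ : ℂ) * Complex.I) - 1)]

end CfsgLib.BlichfeldtArc
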